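import Groth.Prelude.Def_CInt
import Mathlib

/-! Morphisms to separated schemes agreeing on a schematically dense open are equal. -/

set_option autoImplicit false
universe u

open CategoryTheory CategoryTheory.Limits AlgebraicGeometry TopologicalSpace Opposite

namespace SchDenseLib

theorem isIso_of_factor {X E : Scheme.{u}} (U : X.Opens) (hU : CInt.IsSchematicallyDense U)
    (j : E ⟶ X) [IsClosedImmersion j] (k : (U : Scheme.{u}) ⟶ E) (hk : k ≫ j = U.ι) : IsIso j := by
  change MorphismProperty.isomorphisms Scheme.{u} j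
  refine (IsZariskiLocalAtTarget.iff_of_iSup_eq_top (P := MorphismProperty.isomorphisms Scheme.{u}) _
    (iSup_affineOpens_eq_top X)).mpr fun V => ?_
  haveI : IsAffine V.1.toScheme := V.2
  have hinj : Function.Injective (j.app (V.1.ι ''ᵁ ⊤)) := by
    rw [injective_iff_map_eq_zero]
    intro t ht
    refine hU _ ?_
    have h1 : U.ι.app (V.1.ι ''ᵁ ⊤) t = 0 := by
      rw [Scheme.Hom.congr_app hk.symm]
      show (U : Scheme.{u}).presheaf.map _ ((k.app _).hom ((j.app (V.1.ι ''ᵁ ⊤)).hom t)) = 0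
      exact (congrArg (fun z => (U : Scheme.{u}).presheaf.map _ ((k.app _).hom z)) ht).trans
        ((congrArg _ (map_zero _)).trans (map_zero _))
    have h2 : X.presheaf.map (homOfLE (inf_le_left : (V.1.ι ''ᵁ ⊤) ⊓ U ≤ V.1.ι ''ᵁ ⊤)).op t = 0 := by
      rw [Scheme.Opens.ι_app] at h1
      have e : (V.1.ι ''ᵁ ⊤) ⊓ U ≤ U.ι ''ᵁ (U.ι ⁻¹ᵁ (V.1.ι ''ᵁ ⊤)) :=
        le_of_eq (by rw [Scheme.Hom.image_preimage_eq_opensRange_inf, Scheme.Opens.opensRange_ι, inf_comm])
      have h3 := (congrArg (X.presheaf.map (homOfLE e).op).hom h1).trans (map_zero _)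
      rw [← h3]
      have hle : U.ι ''ᵁ (U.ι ⁻¹ᵁ (V.1.ι ''ᵁ ⊤)) ≤ V.1.ι ''ᵁ ⊤ := (Scheme.Hom.image_preimage_eq_opensRange_inf U.ι _).trans_le inf_le_right
      exact congrArg (fun φ => CommRingCat.Hom.hom φ t) (X.presheaf.map_comp (homOfLE hle).op (homOfLE e).op)
    rw [h2, map_zero]
  refine IsClosedImmersion.isIso_of_injective_of_isAffine (f := j ∣_ V.1) ?_
  rw [Scheme.Hom.appTop, morphismRestrict_app]
  intro a b hab
  exact hinj ((ConcreteCategory.bijective_of_isIso (E.presheaf.map (eqToHom (image_morphismRestrict_preimage j V.1 ⊤)).op)).1 hab)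

theorem ext_of_isSchematicallyDense {X Y Z : Scheme.{u}} (U : X.Opens) (hU : CInt.IsSchematicallyDense U)
    {f g : X ⟶ Y} (s : Y ⟶ Z) [IsSeparated s] (h : f ≫ s = g ≫ s) (hι : U.ι ≫ f = U.ι ≫ g) : f = g := by
  let X' : Over Z := Over.mk (f ≫ s)
  let Y' : Over Z := Over.mk s
  let U' : Over Z := Over.mk (U.ι ≫ f ≫ s)
  let f' : X' ⟶ Y' := Over.homMk f
  let g' : X' ⟶ Y' := Over.homMk g h.symm
  let ι' : U' ⟶ X' := Over.homMk U.ι
  have hc : ι' ≫ f' = ι' ≫ g' := by ext1; exact hι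
  haveI : IsSeparated Y'.hom := ‹_›
  haveI := isIso_of_factor U hU (equalizer.ι f' g').left (equalizer.lift ι' hc).left
    (by rw [← Over.comp_left, equalizer.lift_ι]; rfl)
  rw [← cancel_epi (equalizer.ι f' g').left]
  exact congr($(equalizer.condition f' g').left)

end SchDenseLib
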